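import Cfsg.Agent.Twisted.Groups.D4

/-!
The Weyl group of type G2: twelve elements, exponent six (helper97).
-/

set_option autoImplicit false

namespace Cfsg.Agent.TorusSection.WeylG2

open Cfsg.Agent.Twisted Cfsg.Agent.Twisted.TypeD4

theorem exists_form (g : (CoxeterMatrix.G₂).Group) :
    ∃ i : Fin 6 × Bool, g = ((CoxeterMatrix.G₂).simple 0 * (CoxeterMatrix.G₂).simple 1) ^ i.1.val *
      (bif i.2 then (CoxeterMatrix.G₂).simple 0 else 1) := by
  set cs := (CoxeterMatrix.G₂).toCoxeterSystem
  have hmem : g ∈ Subgroup.closure {cs.simple 0, cs.simple 1} := by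
    have : Set.range cs.simple = {cs.simple 0, cs.simple 1} := by
      ext x
      simp only [Set.mem_range, Fin.exists_fin_two, Set.mem_insert_iff, Set.mem_singleton_iff]
      tauto
    rw [← this, CoxeterSystem.subgroup_closure_range_simple]
    exact Subgroup.mem_top g
  obtain ⟨i, hi, h⟩ := eq_dihedral (cs.simple_mul_simple_self 0) (cs.simple_mul_simple_self 1)
    (m := 6) (by omega) (cs.simple_mul_simple_pow 0 1) hmem
  rcases h with h | h
  · exact ⟨(⟨i, hi⟩, false), h.trans (mul_one _).symm⟩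
  · exact ⟨(⟨i, hi⟩, true), h⟩

/-- the twelve elements as permutations of the roots -/
def pel (i : Fin 6 × Bool) : Equiv.Perm (Fin MT.tab.n) :=
  (pw 0 * pw 1) ^ i.1.val * (bif i.2 then pw 0 else 1)

theorem psi_form (i : Fin 6 × Bool) :
    psi (((CoxeterMatrix.G₂).simple 0 * (CoxeterMatrix.G₂).simple 1) ^ i.1.val *
      (bif i.2 then (CoxeterMatrix.G₂).simple 0 else 1)) = pel i := by
  rw [map_mul, map_pow, map_mul, psi_simple, psi_simple, pel]
  cases i.2 <;> simp [psi_simple]

theorem pel_six : ∀ i, ∀ r, ((pel i) ^ 6) r = r := by decide +kernel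

theorem pel_inj : ∀ i j, (∀ r, pel i r = pel j r) → i = j := by decide +kernel

theorem pow_six (w : (CoxeterMatrix.G₂).Group) : w ^ 6 = 1 := by
  obtain ⟨i, rfl⟩ := exists_form w
  refine psi_inj ?_
  rw [map_pow, psi_form, map_one]
  exact Equiv.ext (pel_six i)

theorem card_eq : Nat.card (CoxeterMatrix.G₂).Group = 12 := by
  let F : Fin 6 × Bool → (CoxeterMatrix.G₂).Group := fun i =>
    ((CoxeterMatrix.G₂).simple 0 * (CoxeterMatrix.G₂).simple 1) ^ i.1.val *
      (bif i.2 then (CoxeterMatrix.G₂).simple 0 else 1)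
  have hF : Function.Bijective F := by
    refine ⟨?_, fun g => ?_⟩
    · intro i j h
      have h' := congrArg psi h
      rw [psi_form, psi_form] at h'
      exact pel_inj i j fun r => by rw [h']
    · obtain ⟨i, hi⟩ := exists_form g
      exact ⟨i, hi.symm⟩
  rw [← Nat.card_congr (Equiv.ofBijective F hF)]
  simp

instance instFiniteG2 : Finite (CoxeterMatrix.G₂).Group :=
  Nat.finite_of_card_ne_zero (by rw [card_eq]; norm_num)

end Cfsg.Agent.TorusSection.WeylG2
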