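import Cfsg.Agent.TorusSection.TwoRank
import Cfsg.Agent.TorusSection.WeylG2
import Cfsg.Agent.ChevTori.Group
import Cfsg.Agent.ChevFixed.G2
import Cfsg.Agent.ChevGroup.Mat.OrderG2
import Cfsg.Agent.Lib.ChevCore.WeylMap
import Cfsg.Agent.S1039
import Mathlib.FieldTheory.Finite.Extension

/-!
Alternating sections of the groups of type G2 (helper97).
-/

set_option autoImplicit false
set_option linter.unusedSectionVars false

namespace Cfsg.Agent.TorusSection.G2

open Cfsg.Lie Cfsg.Agent.ChevGroup Cfsg.Agent.ChevCore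

universe u

variable {F : Type u} [Field F] [Fintype F]

local notation "MT" => Cfsg.Agent.ChevGroup.TypeG2.model

local notation "RR" => ChevTori.rr (F := F) MT uGoodG2

/-- The split pair of G2 with its Weyl group. -/
theorem exists_setup (p : ℕ) [Fact p.Prime] [CharP F p] :
    ∃ S : Setup ↥(chevG2.group F) ↥(engN RR) (CoxeterMatrix.G₂).Group p,
      S.T = (RR).H ∧ Function.Injective S.ν ∧ Function.Surjective S.φ ∧
      S.T ≤ S.ν.range ∧ (S.φ.ker.map S.ν) = S.T := by
  classical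
  set R := RR with hR
  have hN : (engN R).map (chevG2.group F).subtype = chevG2.monomialSubgroup F :=
    N_map MT uGoodG2.toCommGood
  obtain ⟨φ₀, hsurj, hker, -⟩ := S1039.result (F := F) (chevG2, ⟨2, CoxeterMatrix.G₂⟩) (by simp)
  let e : ↥(engN R) ≃* ↥(chevG2.monomialSubgroup F) :=
    ((engN R).equivMapOfInjective _ (chevG2.group F).subtype_injective).trans (MulEquiv.subgroupCongr hN)
  have he : ∀ n : ↥(engN R), ((e n : ↥(chevG2.monomialSubgroup F)) : GL chevG2.Idx F) =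
      ((n.1 : ↥(chevG2.group F)) : GL chevG2.Idx F) := fun _ => rfl
  have hk : ∀ n : ↥(engN R), φ₀ (e n) = 1 ↔ n.1 ∈ R.H := fun n => by
    rw [← MonoidHom.mem_ker, hker, Subgroup.mem_subgroupOf, ← Model.H_map MT, he]
    exact ⟨fun ⟨h, hh, e'⟩ => Subtype.ext e' ▸ hh, fun h => ⟨n.1, h, rfl⟩⟩
  obtain ⟨q, ⟨f, hp, hq⟩⟩ : ∃ q, ∃ f : ℕ+, p.Prime ∧ Fintype.card F = p ^ (f : ℕ) :=
    ⟨0, FiniteField.card F p⟩
  have hU : IsPGroup p R.U := by
    refine IsPGroup.of_card (n := (f : ℕ) * 6) ?_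
    rw [← Model.card_U_eq MT (relsOfCommGood uGoodG2.toCommGood F),
      Model.card_posUnipotent MT (relsOfCommGood uGoodG2.toCommGood F) TypeG2.longest_ok TypeG2.pos_span]
    rw [Nat.card_eq_fintype_card, hq, ← pow_mul]
    rfl
  have hof : ∀ b ∈ R.B, ∀ k : ℕ, b ^ p ^ k = 1 → b ∈ R.U := by
    intro b hb k hb'
    obtain ⟨u, hu, t, ht, rfl⟩ := R.mem_B_iff.1 hb
    have hn : ∀ h ∈ R.H, ∀ x ∈ R.U, h * x * h⁻¹ ∈ R.U := fun h hh x hx =>
      (Subgroup.mem_normalizer_iff.1 (R.H_le_normalizer_U hh) x).1 hx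
    have key : ∀ N : ℕ, ∃ u' ∈ R.U, (u * t) ^ N = u' * t ^ N := by
      intro N
      induction N with
      | zero => exact ⟨1, one_mem _, by simp⟩
      | succ N ih =>
        obtain ⟨u', hu', e⟩ := ih
        refine ⟨u' * (t ^ N * u * (t ^ N)⁻¹), mul_mem hu' (hn _ (pow_mem ht N) _ hu), ?_⟩
        rw [pow_succ, e, pow_succ t]; group
    obtain ⟨u', hu', e⟩ := key (p ^ k)
    rw [hb'] at e
    have h1 : t ^ p ^ k = u'⁻¹ := eq_inv_of_mul_eq_one_right e.symm
    have h2 := (Model.shapeR MT (relsOfCommGood uGoodG2.toCommGood F)).U_inter_H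
      (h1 ▸ inv_mem hu') (pow_mem ht _)
    have h3 := pow_gcd_eq_one.2 ⟨h2, ChevTori.pow_card_sub_one MT uGoodG2 ht⟩
    have hco : Nat.gcd (p ^ k) (Fintype.card F - 1) = 1 := by
      refine Nat.Coprime.pow_left k ((Nat.Prime.coprime_iff_not_dvd hp).2 fun hd => ?_)
      have h1 : 1 ≤ p ^ (f : ℕ) := Nat.one_le_pow _ _ hp.pos
      rw [hq] at hd
      have := Nat.dvd_sub (dvd_pow_self p f.pos.ne') hd
      rw [Nat.sub_sub_self h1] at this
      exact hp.one_lt.ne' (Nat.dvd_one.1 this)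
    rw [hco, pow_one] at h3
    rw [h3, mul_one]
    exact hu
  refine ⟨{
    B := R.B, U := R.U, T := R.H,
    ν := (engN R).subtype, φ := φ₀.comp e.toMonoidHom,
    torus_le := R.H_le_B, unip_le := R.U_le_B,
    decomp := fun b hb => R.mem_B_iff.1 hb,
    conj := fun b hb u hu => ?_,
    pgroup := hU, of_pow := hof,
    disj := fun x hu ht => (Model.shapeR MT (relsOfCommGood uGoodG2.toCommGood F)).U_inter_H hu ht,
    comm := fun a ha b hb => ChevTori.H_commute MT uGoodG2 ha hb,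
    bruhat := fun g => ?_, normal := fun n t ht => ?_, ker := fun n hn => (hk n).1 hn },
    rfl, (engN R).subtype_injective, hsurj.comp e.surjective, fun t ht => ⟨⟨t, ?_⟩, rfl⟩, ?_⟩
  · obtain ⟨v, hv, t, ht, rfl⟩ := R.mem_B_iff.1 hb
    have h1 := (Subgroup.mem_normalizer_iff.1 (R.H_le_normalizer_U ht) u).1 hu
    have : v * t * u * (v * t)⁻¹ = v * (t * u * t⁻¹) * v⁻¹ := by group
    rw [this]
    exact mul_mem (mul_mem hv h1) (inv_mem hv)
  · obtain ⟨b, hb, v, -, b', hb', e'⟩ := R.exists_bruhat (g := g)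
      ((Model.group_top MT (relsOfCommGood uGoodG2.toCommGood F) TypeG2.wit_ok).symm ▸ Subgroup.mem_top g)
    exact ⟨b, hb, ⟨R.nw v, nw_mem_engN R v⟩, b', hb', e'⟩
  · obtain ⟨h, hh, w, hw⟩ := mem_engN R n.2
    show (n : ↥(chevG2.group F)) * t * (n : ↥(chevG2.group F))⁻¹ ∈ R.H
    rw [hw, show h * R.nw w * t * (h * R.nw w)⁻¹ = h * (R.nw w * t * (R.nw w)⁻¹) * h⁻¹ by group]
    exact mul_mem (mul_mem hh (nw_conj_mem_H R w ht)) (inv_mem hh)
  · exact H_le_engN R ht
  · ext x
    constructor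
    · rintro ⟨n, hn, rfl⟩
      exact (hk n).1 hn
    · intro hx
      exact ⟨⟨x, H_le_engN R hx⟩, (hk _).2 hx, rfl⟩

theorem index_torus {q : ℕ} (hq : Fintype.card F = q) :
    (RR).H.index = q ^ 6 * (q + 1) * (q ^ 5 + q ^ 4 + q ^ 3 + q ^ 2 + q + 1) := by
  classical
  set K := relsOfCommGood uGoodG2.toCommGood F
  have hA : TorusFacts chevG2 := torusFacts_of_good uGoodG2.toCommGood.toGood
  have hH : Nat.card ↥((RR).H) = (q - 1) ^ 2 := by
    rw [← Model.card_H_eq MT K, ChevFixed.TypeG2.card_torus hA K, hq]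
  have hG := TypeG2.card_group hA K hq
  have hmul := (RR).H.index_mul_card
  rw [hH, hG] at hmul
  have h2 : 2 ≤ q := hq ▸ Fintype.one_lt_card
  refine Nat.eq_of_mul_eq_mul_right (show 0 < (q - 1) ^ 2 from pow_pos (by omega) 2) (hmul.trans ?_)
  obtain ⟨r, rfl⟩ : ∃ r, q = r + 1 := ⟨q - 1, by omega⟩
  have e2 : (r + 1) ^ 2 - 1 = r * (r + 2) := by
    rw [show (r + 1) ^ 2 = r * (r + 2) + 1 by ring, Nat.add_sub_cancel]
  have e6 : (r + 1) ^ 6 - 1 =
      r * ((r + 1) ^ 5 + (r + 1) ^ 4 + (r + 1) ^ 3 + (r + 1) ^ 2 + (r + 1) + 1) := by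
    rw [show (r + 1) ^ 6 =
      r * ((r + 1) ^ 5 + (r + 1) ^ 4 + (r + 1) ^ 3 + (r + 1) ^ 2 + (r + 1) + 1) + 1 by ring,
      Nat.add_sub_cancel]
  rw [e2, e6, Nat.add_sub_cancel]
  ring

/-- No section of degree seven when the field has `5 ∣ q - 1`. -/
theorem no_seven (p : ℕ) [Fact p.Prime] [CharP F p] (h5 : Fintype.card F % 5 = 1) {r : ℕ} (hr : 7 ≤ r)
    {H : Type*} [Group H] (ι : H →* ↥(chevG2.group F)) (hι : Function.Injective ι)
    (f : H →* ↥(alternatingGroup (Fin r))) (hf : Function.Surjective f) : False := by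
  obtain ⟨S, hS, -⟩ := exists_setup (F := F) p
  obtain ⟨a, b, ha, hab⟩ := exists_five_four hr
  haveI : Fact (Nat.Prime 5) := ⟨by norm_num⟩
  refine S.no_section (ℓ := 5) ?_ 6 WeylG2.pow_six ι hι f hf a b ha hab fun hc => ?_
  · rw [hS, index_torus rfl, Nat.dvd_iff_mod_eq_zero]
    simp [Nat.add_mod, Nat.mul_mod, Nat.pow_mod, h5]
  · have h1 : (2 ^ 6 : ℕ) ≡ 1 [MOD 5] := by
      rw [← ha, ← pow_eq_pow_iff_modEq, pow_one]
      exact hc
    revert h1
    decide

/-- No section of degree eight when the field has `4 ∣ q - 1`. -/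
theorem no_eight (p : ℕ) [Fact p.Prime] [CharP F p] (h4 : Fintype.card F % 4 = 1) {r : ℕ} (hr : 8 ≤ r)
    {H : Type*} [Group H] (ι : H →* ↥(chevG2.group F)) (hι : Function.Injective ι)
    (f : H →* ↥(alternatingGroup (Fin r))) (hf : Function.Surjective f) : False := by
  classical
  obtain ⟨S, hS, hνi, hsurj, hTM, hkmap⟩ := exists_setup (F := F) p
  obtain ⟨Q, x, hQ, hx, h4', h1, hinj⟩ := exists_two_group hr
  refine S.no_two_section ?_ WeylG2.pow_six (fun n hn => by rw [hνi (hn.trans (map_one _).symm), map_one]) ?_ ι hι f hf Q hQ x hx h4' h1 hinj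
  · -- the monomial group holds a Sylow two-subgroup
    have hrel : S.T.relIndex S.ν.range = 12 := by
      rw [← hkmap, MonoidHom.range_eq_map, Subgroup.relIndex_map_map_of_injective _ _ hνi,
        Subgroup.relIndex_top_right, Subgroup.index_ker, MonoidHom.range_eq_top.2 hsurj,
        Subgroup.card_top, WeylG2.card_eq]
    have hm := Subgroup.relIndex_mul_index hTM
    rw [hrel, hS, index_torus rfl] at hm
    intro h2
    have h3 : Fintype.card F ^ 6 * (Fintype.card F + 1) *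
        (Fintype.card F ^ 5 + Fintype.card F ^ 4 + Fintype.card F ^ 3 + Fintype.card F ^ 2 +
          Fintype.card F + 1) % 8 = 0 := by
      rw [← hm]
      obtain ⟨c, hc⟩ := h2
      omega
    generalize Fintype.card F = q at h3 h4
    have h8 : q % 8 = 1 ∨ q % 8 = 5 := by omega
    rcases h8 with h8 | h8 <;> simp [Nat.add_mod, Nat.mul_mod, Nat.pow_mod, h8] at h3
  · -- the torus has two-rank two
    let X := {v : Fin (MT).tab.l → Fˣ // ∀ i, v i ^ 2 = 1}
    let g : {t : ↥(chevG2.group F) // t ∈ S.T ∧ t ^ 2 = 1} → X := fun t =>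
      ⟨ChevTori.psi MT uGoodG2 ⟨t.1, hS ▸ t.2.1⟩, fun i => by
        rw [← Pi.pow_apply, ← map_pow,
          show (⟨t.1, hS ▸ t.2.1⟩ : ↥((RR).H)) ^ 2 = 1 from Subtype.ext t.2.2, map_one]
        rfl⟩
    have hg : Function.Injective g := fun a b h => Subtype.ext
      (congrArg Subtype.val (ChevTori.psi_injective MT uGoodG2 (congrArg Subtype.val h)) :)
    refine (Nat.card_le_card_of_injective g hg).trans ?_
    rw [Nat.card_congr (Equiv.subtypePiEquivPi (p := fun _ (u : Fˣ) => u ^ 2 = 1)), Nat.card_pi,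
      Finset.prod_const, Finset.card_univ, Fintype.card_fin]
    have hle : Nat.card {u : Fˣ // u ^ 2 = 1} ≤ 2 := by
      rw [Nat.card_eq_fintype_card, Fintype.card_subtype]
      exact IsCyclic.card_pow_eq_one_le (by norm_num)
    exact Nat.pow_le_pow_left hle 2

/-- Alternating sections of G2. -/
theorem alternating_bound (p : ℕ) [Fact p.Prime] [CharP F p] (r : ℕ) (H : Subgroup ↥(chevG2.group F))
    (N : Subgroup ↥H) [N.Normal] (h : Nonempty (↥H ⧸ N ≃* ↥(alternatingGroup (Fin r)))) :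
    r ≤ 6 + (if p = 5 then 1 else 0) := by
  obtain ⟨e⟩ := h
  by_contra hr
  have hf : Function.Surjective (e.toMonoidHom.comp (QuotientGroup.mk' N)) :=
    e.surjective.comp (QuotientGroup.mk'_surjective N)
  have hp : p.Prime := Fact.out
  obtain ⟨f, -, hq⟩ := FiniteField.card F p
  split_ifs at hr with h5
  · refine no_eight p ?_ (by omega) H.subtype H.subtype_injective _ hf
    rw [hq, h5, Nat.pow_mod]
    simp
  · haveI : NeZero 4 := ⟨by norm_num⟩
    letI : Fintype (FiniteField.Extension F p 4) := Fintype.ofFinite _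
    haveI : CharP (FiniteField.Extension F p 4) p :=
      charP_of_injective_algebraMap (algebraMap F (FiniteField.Extension F p 4)).injective p
    refine no_seven (F := FiniteField.Extension F p 4) p ?_ (by omega)
      ((ChevFixed.mapGroup (algebraMap F (FiniteField.Extension F p 4))).comp H.subtype)
      ((ChevFixed.mapGroup_injective _).comp H.subtype_injective) _ hf
    rw [Fintype.card_eq_nat_card, FiniteField.natCard_extension, Nat.card_eq_fintype_card, hq, Nat.pow_mod]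
    have hne : p ^ (f : ℕ) % 5 ≠ 0 := fun h0 => h5
      ((Nat.prime_dvd_prime_iff_eq (by norm_num) hp).1
        ((by norm_num : Nat.Prime 5).dvd_of_dvd_pow (Nat.dvd_of_mod_eq_zero h0))).symm
    have hlt : p ^ (f : ℕ) % 5 < 5 := Nat.mod_lt _ (by norm_num)
    interval_cases p ^ (f : ℕ) % 5 <;> simp_all

end Cfsg.Agent.TorusSection.G2
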