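import Cfsg.Agent.TorusSection.TwoRank
import Cfsg.Agent.TorusSection.WeylG2
import Cfsg.Agent.TwistedOut.TrialityD4
import Cfsg.Agent.Twisted.Groups.D4Inst
import Mathlib.FieldTheory.Finite.Extension

/-!
Alternating sections of the triality twisted groups (helper97).
-/

set_option autoImplicit false
set_option linter.unusedSectionVars false

namespace Cfsg.Agent.TorusSection.TrialityD4

open Cfsg.Lie Cfsg.Agent.ChevGroup Cfsg.Agent.ChevIsogeny Cfsg.Agent.Twisted Cfsg.Agent.TwistedOut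
open Cfsg.Agent.Twisted.TypeD4

universe u

variable {F : Type u} [Field F] [Fintype F] {q p f : ℕ} {K : Rels chevD4 F}

variable (Z : Frame (T := MT) K PP q fd) (hq : IsPrimePow q) (hK : Fintype.card F = q ^ 3)

set_option quotPrecheck false in
local notation "G₁" => genG MT K (d4Words F q)

set_option quotPrecheck false in
local notation "𝔻" => (TypeD4.gens Z hq hK).data

include Z hq hK

theorem exists_setup (hp : p.Prime) (hf : 1 ≤ f) (hqf : q = p ^ f) :
    ∃ S : Setup ↥G₁ ↥(𝔻).N1 (CoxeterMatrix.G₂).Group p,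
      S.T = tS 𝔻 ∧ Function.Injective S.ν ∧ Function.Surjective S.φ ∧
      S.T ≤ S.ν.range ∧ (S.φ.ker.map S.ν) = S.T := by
  classical
  haveI := Fact.mk hp
  have H := TwistedOut.TrialityD4.hyp Z hq hK hp hf hqf
  obtain ⟨φ, hsurj, hker⟩ := (𝔻).exists_weylHom (MT.shapeR K) ((TypeD4.gens Z hq hK).longest long_ok)
    (TypeD4.gens Z hq hK).split Z.pres psi psi_inj (CoxeterMatrix.G₂).simple
    (fun k r => by rw [psi_simple]; rfl) simple_gen
  have hk : ∀ n, φ n = 1 ↔ (n : ↥(chevD4.group F)) ∈ (MT.rel K).H := fun n => by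
    rw [← MonoidHom.mem_ker, hker, Subgroup.mem_subgroupOf]
    exact ⟨fun h => h.2, fun h => ⟨(Subgroup.mem_inf.1 n.2).1, h⟩⟩
  have hTN : ∀ t ∈ tS 𝔻, (t : ↥(chevD4.group F)) ∈ (𝔻).N1 := fun t ht =>
    Subgroup.mem_inf.2 ⟨t.2, Subgroup.mem_sup_left ht⟩
  refine ⟨{
    B := bS 𝔻, U := uS 𝔻, T := tS 𝔻,
    ν := Subgroup.inclusion (inf_le_left : (𝔻).N1 ≤ G₁), φ := φ,
    torus_le := H.tS_le_bS, unip_le := H.uS_le_bS,
    decomp := fun b hb => H.exists_ut hb,
    conj := fun b hb u hu => H.bS_conj_uS hb hu,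
    pgroup := H.isPGroup_uS,
    of_pow := fun b hb k hk => H.mem_uS_of_pow hb hk,
    disj := fun x hu ht => H.u_t_one hu ht,
    comm := fun a ha b hb => H.tS_comm ha hb,
    bruhat := fun g => ?_, normal := fun n t ht => ?_, ker := fun n hn => (hk n).1 hn }, rfl,
    Subgroup.inclusion_injective (inf_le_left : (𝔻).N1 ≤ G₁), hsurj, fun t ht => ⟨⟨t, hTN t ht⟩, rfl⟩, ?_⟩
  · obtain ⟨W, b, hb, b', hb', e⟩ := H.exists_bw g
    exact ⟨b, hb, ⟨(𝔻).nW W, (𝔻).nW_mem_N1 W⟩, b', hb', e⟩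
  · exact mono_conj_H _ (Subgroup.mem_inf.1 n.2).2 (h := ((t : ↥G₁) : ↥(chevD4.group F))) ht
  · ext x
    constructor
    · rintro ⟨n, hn, rfl⟩
      exact (hk n).1 hn
    · intro hx
      exact ⟨⟨x, hTN x hx⟩, (hk _).2 hx, rfl⟩

theorem index_torus : (tS 𝔻).index = q ^ 12 * (q + 1) * (q ^ 3 + 1) * (q ^ 8 + q ^ 4 + 1) := by
  have hc : Nat.card ↥(tS 𝔻) = (q ^ 3 - 1) * (q - 1) := by
    rw [← card_H1 Z hq hK]
    exact Nat.card_congr ⟨fun x => ⟨(x.1 : ↥(chevD4.group F)), x.1.2, x.2⟩, fun y => ⟨⟨y.1, y.2.1⟩, y.2.2⟩,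
      fun _ => rfl, fun _ => rfl⟩
  have hG : Nat.card ↥G₁ = q ^ 12 * (q ^ 2 - 1) * (q ^ 6 - 1) * (q ^ 8 + q ^ 4 + 1) := by
    rw [← card_G Z hq hK, twistedD4]
    exact Nat.card_congr (genEquiv MT K (d4Words F q)).toEquiv
  have hmul := (tS 𝔻).index_mul_card
  rw [hc, hG] at hmul
  have h2 := hq.two_le
  have h3 : 0 < (q ^ 3 - 1) * (q - 1) :=
    Nat.mul_pos (Nat.sub_pos_of_lt (Nat.one_lt_pow (by norm_num) (by omega))) (by omega)
  refine Nat.eq_of_mul_eq_mul_right h3 (hmul.trans ?_)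
  obtain ⟨r, rfl⟩ : ∃ r, q = r + 1 := ⟨q - 1, by omega⟩
  obtain ⟨c, hc3⟩ : ∃ c, (r + 1) ^ 3 = c + 1 := ⟨(r + 1) ^ 3 - 1, by
    have := Nat.one_le_pow 3 (r + 1) (by omega); omega⟩
  have e2 : (r + 1) ^ 2 - 1 = r * (r + 2) := by
    rw [show (r + 1) ^ 2 = r * (r + 2) + 1 by ring, Nat.add_sub_cancel]
  have e6 : (r + 1) ^ 6 - 1 = c * (c + 2) := by
    rw [show (r + 1) ^ 6 = ((r + 1) ^ 3) ^ 2 by ring, hc3, show (c + 1) ^ 2 = c * (c + 2) + 1 by ring,
      Nat.add_sub_cancel]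
  rw [e2, e6, Nat.add_sub_cancel, hc3, Nat.add_sub_cancel]
  ring

theorem two_torsion (S : Setup ↥G₁ ↥(𝔻).N1 (CoxeterMatrix.G₂).Group p) (hS : S.T = tS 𝔻) :
    Nat.card {t : ↥G₁ // t ∈ S.T ∧ t ^ 2 = 1} ≤ 4 := by
  classical
  have hH1 := (TypeD4.gens Z hq hK).H1_eq torOk (pre_eq Z) inv_ok (m := 3) (by decide) (per Z hq hK)
  have hin : ∀ c : ↥(Z.fixedPar pre), Z.torHom c.1 ∈ G₁ := fun c =>
    (Subgroup.mem_inf.1 (hH1.ge (Subgroup.mem_map_of_mem Z.torHom c.2))).1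
  let π : ↥(Z.fixedPar pre) →* ↥G₁ := (Z.torHom.comp (Z.fixedPar pre).subtype).codRestrict G₁ hin
  refine S.two_torsion_le π ?_ ?_
  · rw [hS]
    ext t
    constructor
    · rintro ⟨c, rfl⟩
      exact (Subgroup.mem_inf.1 (hH1.ge (Subgroup.mem_map_of_mem Z.torHom c.2))).2
    · intro ht
      obtain ⟨c, hc, e⟩ := hH1.le (Subgroup.mem_inf.2 ⟨t.2, ht⟩)
      exact ⟨⟨c, hc⟩, Subtype.ext e⟩
  · let g : (powMonoidHom 2 : ↥(Z.fixedPar pre) →* ↥(Z.fixedPar pre)).ker →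
        {u : Fˣ // u ^ 2 = 1} × {u : Fˣ // u ^ 2 = 1} := fun c =>
      (⟨c.1.1 0, congrFun (congrArg Subtype.val (MonoidHom.mem_ker.1 c.2)) 0⟩,
        ⟨c.1.1 1, congrFun (congrArg Subtype.val (MonoidHom.mem_ker.1 c.2)) 1⟩)
    have hg : Function.Injective g := by
      rintro ⟨⟨c, hc⟩, hc2⟩ ⟨⟨d, hd⟩, hd2⟩ h
      have h0 : c 0 = d 0 := congrArg (fun z => z.1.1) h
      have h1 : c 1 = d 1 := congrArg (fun z => z.2.1) h
      have hs : ∀ {e : Fin MT.tab.l → Fˣ}, e ∈ Z.fixedPar pre → ∀ j, e (pre j) ^ q = e j := fun he j => by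
        rw [← sig_apply Z, (Z.mem_fixedPar).1 he]
      have h2 : c 2 = d 2 := by
        rw [← hs hc 2, ← hs hd 2, show pre (2 : Fin MT.tab.l) = 0 from rfl, h0]
      refine Subtype.ext (Subtype.ext (funext fun j => ?_))
      match j with
      | 0 => exact h0
      | 1 => exact h1
      | 2 => exact h2
      | 3 =>
        show c 3 = d 3
        rw [← hs hc 3, ← hs hd 3, show pre (3 : Fin MT.tab.l) = 2 from rfl, h2]
    refine (Nat.card_le_card_of_injective g hg).trans ?_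
    rw [Nat.card_prod]
    have hle : Nat.card {u : Fˣ // u ^ 2 = 1} ≤ 2 := by
      rw [Nat.card_eq_fintype_card, Fintype.card_subtype]
      exact IsCyclic.card_pow_eq_one_le (by norm_num)
    exact Nat.mul_le_mul hle hle

theorem no_seven (hp : p.Prime) (hf : 1 ≤ f) (hqf : q = p ^ f) (h5 : q % 5 = 1) {r : ℕ} (hr : 7 ≤ r)
    {H : Type*} [Group H] (ι : H →* ↥G₁) (hι : Function.Injective ι)
    (φ : H →* ↥(alternatingGroup (Fin r))) (hφ : Function.Surjective φ) : False := by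
  obtain ⟨S, hS, -⟩ := exists_setup Z hq hK hp hf hqf
  obtain ⟨a, b, ha, hab⟩ := exists_five_four hr
  haveI : Fact (Nat.Prime 5) := ⟨by norm_num⟩
  refine S.no_section (ℓ := 5) ?_ 6 WeylG2.pow_six ι hι φ hφ a b ha hab fun hc => ?_
  · rw [hS, index_torus Z hq hK, Nat.dvd_iff_mod_eq_zero]
    simp [Nat.add_mod, Nat.mul_mod, Nat.pow_mod, h5]
  · have h1 : (2 ^ 6 : ℕ) ≡ 1 [MOD 5] := by
      rw [← ha, ← pow_eq_pow_iff_modEq, pow_one]
      exact hc
    revert h1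
    decide

theorem no_eight (hp : p.Prime) (hf : 1 ≤ f) (hqf : q = p ^ f) (h4 : q % 4 = 1) {r : ℕ} (hr : 8 ≤ r)
    {H : Type*} [Group H] (ι : H →* ↥G₁) (hι : Function.Injective ι)
    (φ : H →* ↥(alternatingGroup (Fin r))) (hφ : Function.Surjective φ) : False := by
  classical
  obtain ⟨S, hS, hνi, hsurj, hTM, hkmap⟩ := exists_setup Z hq hK hp hf hqf
  obtain ⟨Q, x, hQ, hx, h4', h1, hinj⟩ := exists_two_group hr
  refine S.no_two_section ?_ WeylG2.pow_six
    (fun n hn => by rw [hνi (hn.trans (map_one _).symm), map_one]) (two_torsion Z hq hK S hS)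
    ι hι φ hφ Q hQ x hx h4' h1 hinj
  have hrel : S.T.relIndex S.ν.range = 12 := by
    rw [← hkmap, MonoidHom.range_eq_map, Subgroup.relIndex_map_map_of_injective _ _ hνi,
      Subgroup.relIndex_top_right, Subgroup.index_ker, MonoidHom.range_eq_top.2 hsurj,
      Subgroup.card_top, WeylG2.card_eq]
  have hm := Subgroup.relIndex_mul_index hTM
  rw [hrel, hS, index_torus Z hq hK] at hm
  intro h2
  have h3 : q ^ 12 * (q + 1) * (q ^ 3 + 1) * (q ^ 8 + q ^ 4 + 1) % 8 = 0 := by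
    rw [← hm]
    obtain ⟨c, hc⟩ := h2
    omega
  have h8 : q % 8 = 1 ∨ q % 8 = 5 := by omega
  rcases h8 with h8 | h8 <;> simp [Nat.add_mod, Nat.mul_mod, Nat.pow_mod, h8] at h3

omit Z hq hK

/-- A map of fields on the matrices of words. -/
theorem map_wordMat {E : Type*} [Field E] {L : Type*} [Field L] (τ : E →+* L) (w : List (ℕ × E)) :
    (chevD4.wordMat E w).map τ = chevD4.wordMat L (w.map fun x => (x.1, τ x.2)) := by
  induction w with
  | nil => simp [ChevalleyDatum.wordMat]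
  | cons x w ih =>
    simp only [ChevalleyDatum.wordMat, List.map_cons, List.prod_cons] at ih ⊢
    rw [Matrix.map_mul, ih, ChevFixed.x_map]

/-- `³D₄(q) ≤ ³D₄(q⁴)`. -/
theorem twisted_le_comap {E : Type*} [Field E] [Fintype E] {L : Type*} [Field L] (τ : E →+* L) {q : ℕ}
    (hE : Fintype.card E = q ^ 3) :
    twistedD4 E q ≤ (twistedD4 L (q ^ 4)).comap (Matrix.GeneralLinearGroup.map τ) := by
  refine (Subgroup.closure_le _).2 ?_
  rintro g ⟨w, hw, hg⟩
  refine Subgroup.subset_closure ⟨w.map fun x => (x.1, τ x.2), ?_, ?_⟩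
  · have hper : ∀ t : E, t ^ q ^ 3 = t := fun t => hE ▸ FiniteField.pow_card t
    have e1 : ∀ t : E, t ^ q ^ 4 = t ^ q := fun t => by
      rw [show q ^ 4 = q ^ 3 * q by ring, pow_mul, hper]
    have e2 : ∀ t : E, t ^ (q ^ 4) ^ 2 = t ^ q ^ 2 := fun t => by
      rw [show (q ^ 4) ^ 2 = q ^ 3 * (q ^ 3 * q ^ 2) by ring, pow_mul, hper, pow_mul, hper]
    rcases hw with ⟨t, ht, r, hr, rfl⟩ | ⟨t, rs, hr, rfl⟩
    · exact Or.inl ⟨τ t, by rw [← map_pow, e1, ht], r, hr, rfl⟩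
    · exact Or.inr ⟨τ t, rs, hr, by simp [← map_pow, e1, e2]⟩
  · rw [← map_wordMat τ w, ← hg]
    rfl

/-- Alternating sections of the triality groups. -/
theorem alternating_bound {E : Type*} [Field E] [Fintype E] (p a : ℕ) [Fact p.Prime] [CharP E p]
    (ha : 1 ≤ a) (hE : Fintype.card E = (p ^ a) ^ 3) (r : ℕ) (H : Subgroup ↥(twistedD4 E (p ^ a)))
    (N : Subgroup ↥H) [N.Normal] (h : Nonempty (↥H ⧸ N ≃* ↥(alternatingGroup (Fin r)))) :
    r ≤ 6 + (if p = 5 then 1 else 0) := by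
  obtain ⟨e⟩ := h
  by_contra hr
  have hφ : Function.Surjective (e.toMonoidHom.comp (QuotientGroup.mk' N)) :=
    e.surjective.comp (QuotientGroup.mk'_surjective N)
  have hp : p.Prime := Fact.out
  have hq : IsPrimePow (p ^ a) := hp.isPrimePow.pow (by omega)
  split_ifs at hr with h5
  · let ee := genEquiv MT (relsOfCommGood ChevCore.commGoodD4 E) (d4Words E (p ^ a))
    refine no_eight (p := p) (f := a) (TypeD4.frame₀ hq hE) hq hE hp ha rfl ?_ (by omega)
      (ee.symm.toMonoidHom.comp H.subtype) (ee.symm.injective.comp H.subtype_injective) _ hφ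
    rw [h5, Nat.pow_mod]
    simp
  · haveI : NeZero 4 := ⟨by norm_num⟩
    letI : Fintype (FiniteField.Extension E p 4) := Fintype.ofFinite _
    let L := FiniteField.Extension E p 4
    let τ : E →+* L := algebraMap E L
    have hq4 : IsPrimePow ((p ^ a) ^ 4) := hq.pow (by norm_num)
    have hL : Fintype.card L = ((p ^ a) ^ 4) ^ 3 := by
      rw [Fintype.card_eq_nat_card, FiniteField.natCard_extension, Nat.card_eq_fintype_card, hE]
      ring
    let ee := genEquiv MT (relsOfCommGood ChevCore.commGoodD4 L) (d4Words L ((p ^ a) ^ 4))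
    let ι : ↥(twistedD4 E (p ^ a)) →* ↥(twistedD4 L ((p ^ a) ^ 4)) :=
      ((Matrix.GeneralLinearGroup.map τ).comp (twistedD4 E (p ^ a)).subtype).codRestrict _
        fun g => twisted_le_comap τ hE g.2
    have hι : Function.Injective ι := fun g h e => by
      refine Subtype.ext (Units.ext (Matrix.ext fun i j => τ.injective ?_))
      exact congrFun (congrFun (congrArg (fun z : ↥(twistedD4 L ((p ^ a) ^ 4)) =>
        ((z : GL chevD4.Idx L) : Matrix chevD4.Idx chevD4.Idx L)) e) i) j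
    refine no_seven (p := p) (f := a * 4) (TypeD4.frame₀ hq4 hL) hq4 hL hp (by omega)
      (pow_mul p a 4).symm ?_ (by omega) ((ee.symm.toMonoidHom.comp ι).comp H.subtype)
      ((ee.symm.injective.comp hι).comp H.subtype_injective) _ hφ
    rw [Nat.pow_mod]
    have hne : p ^ a % 5 ≠ 0 := fun h0 => h5
      ((Nat.prime_dvd_prime_iff_eq (by norm_num) hp).1
        ((by norm_num : Nat.Prime 5).dvd_of_dvd_pow (Nat.dvd_of_mod_eq_zero h0))).symm
    have hlt : p ^ a % 5 < 5 := Nat.mod_lt _ (by norm_num)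
    interval_cases p ^ a % 5 <;> simp_all

end Cfsg.Agent.TorusSection.TrialityD4
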