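import Cfsg.Agent.TorusSection.Generic
import Cfsg.Agent.TwistedOut.ReeF4
import Cfsg.Agent.Twisted.Groups.F4Inst

/-!
Alternating sections of the large Ree groups (helper97).
-/

set_option autoImplicit false
set_option linter.unusedSectionVars false

namespace Cfsg.Agent.TorusSection.ReeF4

open Cfsg.Lie Cfsg.Agent.ChevGroup Cfsg.Agent.ChevIsogeny Cfsg.Agent.Twisted Cfsg.Agent.TwistedOut
open Cfsg.Agent.Twisted.TypeF4

universe u

theorem two_pow_mod_seven (k : ℕ) : 2 ^ k % 7 = 1 ∨ 2 ^ k % 7 = 2 ∨ 2 ^ k % 7 = 4 := by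
  induction k with
  | zero => simp
  | succ k ih => rw [pow_succ, Nat.mul_mod]; rcases ih with h | h | h <;> rw [h] <;> norm_num

variable {F : Type u} [Field F] [Fintype F] {m : ℕ} {K : Rels chevF4 F}

variable (Z : Frame (T := MT) K PP (2 ^ m) fd) (hK : Fintype.card F = 2 ^ (2 * m + 1))

set_option quotPrecheck false in
local notation "G₁" => genG MT K (f4Words F (2 ^ m))

set_option quotPrecheck false in
local notation "𝔻" => (TypeF4.gens Z hK).data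

include Z hK

theorem seven_index (hm : 1 ≤ m) : ¬ 7 ∣ (tS 𝔻).index := by
  have hc : Nat.card ↥(tS 𝔻) = (2 ^ (2 * m + 1) - 1) ^ 2 := by
    rw [← card_H1 Z hK]
    exact Nat.card_congr ⟨fun x => ⟨(x.1 : ↥(chevF4.group F)), x.1.2, x.2⟩, fun y => ⟨⟨y.1, y.2.1⟩, y.2.2⟩,
      fun _ => rfl, fun _ => rfl⟩
  have hG : Nat.card ↥G₁ = (2 ^ (2 * m + 1)) ^ 12 * (2 ^ (2 * m + 1) - 1) * ((2 ^ (2 * m + 1)) ^ 3 + 1) *
      ((2 ^ (2 * m + 1)) ^ 4 - 1) * ((2 ^ (2 * m + 1)) ^ 6 + 1) := by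
    rw [← card_G Z hK, twistedF4]
    exact Nat.card_congr (genEquiv MT K (f4Words F (2 ^ m))).toEquiv
  have hmul := (tS 𝔻).index_mul_card
  rw [hc, hG] at hmul
  obtain ⟨q, hq⟩ : ∃ q, q = 2 ^ (2 * m + 1) := ⟨_, rfl⟩
  rw [← hq] at hmul
  have h8 : 8 ≤ q := hq ▸ le_trans (by norm_num) (Nat.pow_le_pow_right (by norm_num : 0 < 2) (show 3 ≤ 2 * m + 1 by omega))
  have h7 : q % 7 = 1 ∨ q % 7 = 2 ∨ q % 7 = 4 := by
    rw [hq]
    exact two_pow_mod_seven _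
  have he : (tS 𝔻).index = q ^ 12 * (q ^ 3 + 1) * (q ^ 3 + q ^ 2 + q + 1) * (q ^ 6 + 1) := by
    have h1 : q ^ 4 - 1 = (q - 1) * (q ^ 3 + q ^ 2 + q + 1) := by
      obtain ⟨r, rfl⟩ : ∃ r, q = r + 1 := ⟨q - 1, by omega⟩
      rw [Nat.add_sub_cancel]
      have : (r + 1) ^ 4 = r * ((r + 1) ^ 3 + (r + 1) ^ 2 + (r + 1) + 1) + 1 := by ring
      omega
    refine Nat.eq_of_mul_eq_mul_right (show 0 < (q - 1) ^ 2 from pow_pos (by omega) 2) ?_
    rw [hmul, h1]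
    ring
  rw [he, Nat.dvd_iff_mod_eq_zero]
  rcases h7 with h | h | h <;> simp [Nat.add_mod, Nat.mul_mod, Nat.pow_mod, h]

theorem exists_setup (hm : 1 ≤ m) : ∃ S : Setup ↥G₁ ↥(𝔻).N1 (DihedralGroup 8) 2, S.T = tS 𝔻 := by
  classical
  haveI := Fact.mk Nat.prime_two
  have H := TwistedOut.ReeF4.hyp Z hK hm
  obtain ⟨φ, -, hker⟩ := (𝔻).exists_weylHom (MT.shapeR K) ((TypeF4.gens Z hK).longest long_ok)
    (TypeF4.gens Z hK).split Z.pres psi psi_inj (fun k => DihedralGroup.sr ((k.val : ℕ) : ZMod 8)) psi_w psi_gen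
  refine ⟨{
    B := bS 𝔻, U := uS 𝔻, T := tS 𝔻,
    ν := Subgroup.inclusion (inf_le_left : (𝔻).N1 ≤ G₁), φ := φ,
    torus_le := H.tS_le_bS, unip_le := H.uS_le_bS,
    decomp := fun b hb => H.exists_ut hb,
    conj := fun b hb u hu => H.bS_conj_uS hb hu,
    pgroup := H.isPGroup_uS,
    of_pow := fun b hb k hk => H.mem_uS_of_pow hb hk,
    disj := fun x hu ht => H.u_t_one hu ht,
    comm := fun a ha b hb => H.tS_comm ha hb,
    bruhat := fun g => ?_, normal := fun n t ht => ?_, ker := fun n hn => ?_ }, rfl⟩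
  · obtain ⟨W, b, hb, b', hb', e⟩ := H.exists_bw g
    exact ⟨b, hb, ⟨(𝔻).nW W, (𝔻).nW_mem_N1 W⟩, b', hb', e⟩
  · exact mono_conj_H _ (Subgroup.mem_inf.1 n.2).2 (h := ((t : ↥G₁) : ↥(chevF4.group F))) ht
  · have h1 : n ∈ φ.ker := hn
    rw [hker] at h1
    exact (Subgroup.mem_subgroupOf.1 h1).2

theorem alternating_le_six (hm : 1 ≤ m) (r : ℕ) (H : Subgroup ↥(twistedF4 F (2 ^ m))) (N : Subgroup ↥H)
    [N.Normal] (h : Nonempty (↥H ⧸ N ≃* ↥(alternatingGroup (Fin r)))) : r ≤ 6 := by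
  by_contra hr
  obtain ⟨e⟩ := h
  obtain ⟨a, b, ha, hab⟩ := exists_seven_three (r := r) (by omega)
  obtain ⟨S, hS⟩ := exists_setup Z hK hm
  haveI : Fact (Nat.Prime 7) := ⟨by norm_num⟩
  have h16 : ∀ w : DihedralGroup 8, w ^ 16 = 1 := by decide +kernel
  refine S.no_section (ℓ := 7) (hS ▸ seven_index Z hK hm) 16 h16
    ((genEquiv MT K (f4Words F (2 ^ m))).symm.toMonoidHom.comp H.subtype)
    ((genEquiv MT K (f4Words F (2 ^ m))).symm.injective.comp H.subtype_injective)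
    (e.toMonoidHom.comp (QuotientGroup.mk' N))
    (e.surjective.comp (QuotientGroup.mk'_surjective N)) a b ha hab ?_
  intro hc
  have h1 : (2 ^ 16 : ℕ) ≡ 1 [MOD 7] := by
    rw [← ha, ← pow_eq_pow_iff_modEq, pow_one]
    exact hc
  revert h1
  decide

end Cfsg.Agent.TorusSection.ReeF4
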