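import Mathlib.GroupTheory.Sylow
import Mathlib.GroupTheory.SpecificGroups.Alternating
import Mathlib.GroupTheory.OrderOfElement
import Mathlib.GroupTheory.Perm.ViaEmbedding
import Mathlib.RingTheory.Int.Basic
import Mathlib.RingTheory.Coprime.Lemmas

/-!
Subgroups of an abelian torus in a split pair: their automisers come from the monomial group, and
what this says about sections (helper97).
-/

set_option autoImplicit false

namespace Cfsg.Agent.TorusSection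

variable {G : Type*} [Group G]

/-- A split pair with an abelian torus, and a map from the monomial group onto its Weyl group. -/
structure Setup (G : Type*) [Group G] (Nn W : Type*) [Group Nn] [Group W] (p : ℕ) where
  /-- the Borel subgroup -/
  B : Subgroup G
  /-- the unipotent part -/
  U : Subgroup G
  /-- the torus -/
  T : Subgroup G
  /-- the monomial group -/
  ν : Nn →* G
  /-- the map onto the Weyl group -/
  φ : Nn →* W
  torus_le : T ≤ B
  unip_le : U ≤ B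
  decomp : ∀ b ∈ B, ∃ u ∈ U, ∃ t ∈ T, u * t = b
  conj : ∀ b ∈ B, ∀ u ∈ U, b * u * b⁻¹ ∈ U
  pgroup : IsPGroup p U
  of_pow : ∀ b ∈ B, ∀ k : ℕ, b ^ p ^ k = 1 → b ∈ U
  disj : ∀ x, x ∈ U → x ∈ T → x = 1
  comm : ∀ a ∈ T, ∀ b ∈ T, a * b = b * a
  bruhat : ∀ g, ∃ b ∈ B, ∃ n, ∃ b' ∈ B, g = b * ν n * b'
  normal : ∀ n, ∀ t ∈ T, ν n * t * (ν n)⁻¹ ∈ T
  ker : ∀ n, φ n = 1 → ν n ∈ T

variable {Nn W : Type*} [Group Nn] [Group W] {p : ℕ} (S : Setup G Nn W p)

/-- Conjugation inside the torus is done by the monomial group. -/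
theorem Setup.exists_monomial (g : G) :
    ∃ n, ∀ x ∈ S.T, g * x * g⁻¹ ∈ S.T → g * x * g⁻¹ = S.ν n * x * (S.ν n)⁻¹ := by
  obtain ⟨b, hb, n, b', hb', rfl⟩ := S.bruhat g
  refine ⟨n, fun x hx ht' => ?_⟩
  set t' := b * S.ν n * b' * x * (b * S.ν n * b')⁻¹ with hdef
  obtain ⟨u, hu, t, ht, rfl⟩ := S.decomp b' hb'
  obtain ⟨u₃, hu₃, t₃, ht₃, rfl⟩ := S.decomp b hb
  set N := S.ν n
  set u₂ := u * (x * u⁻¹ * x⁻¹) with hu2
  have hu₂ : u₂ ∈ S.U := mul_mem hu (S.conj x (S.torus_le hx) _ (inv_mem hu))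
  have hinner : u * t * x * (u * t)⁻¹ = u₂ * x := by
    have hc : t * x * t⁻¹ = x := by rw [S.comm t ht x hx, mul_inv_cancel_right]
    calc u * t * x * (u * t)⁻¹ = u * (t * x * t⁻¹) * u⁻¹ := by group
      _ = u₂ * x := by rw [hc, hu2]; group
  set u₄ := t₃⁻¹ * (u₃⁻¹ * (t' * u₃ * t'⁻¹)) * t₃ with hu4
  have hu₄ : u₄ ∈ S.U := by
    have h1 := S.conj t₃⁻¹ (inv_mem (S.torus_le ht₃)) _
      (mul_mem (inv_mem hu₃) (S.conj t' (S.torus_le ht') _ hu₃))
    rwa [inv_inv] at h1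
  have houter : (u₃ * t₃)⁻¹ * t' * (u₃ * t₃) = u₄ * t' := by
    have hc : t' * t₃ = t₃ * t' := S.comm _ ht' _ ht₃
    calc (u₃ * t₃)⁻¹ * t' * (u₃ * t₃)
        = t₃⁻¹ * (u₃⁻¹ * (t' * u₃ * t'⁻¹)) * (t' * t₃) := by group
      _ = u₄ * t' := by rw [hc, hu4]; group
  have hmain : N * u₂ * N⁻¹ * (N * x * N⁻¹) = u₄ * t' := by
    rw [← houter, hdef]
    calc N * u₂ * N⁻¹ * (N * x * N⁻¹) = N * (u₂ * x) * N⁻¹ := by group
      _ = _ := by rw [← hinner]; group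
  set y := t' * (N * x * N⁻¹)⁻¹
  have hy : N * u₂ * N⁻¹ = u₄ * y := by
    rw [show u₄ * y = u₄ * t' * (N * x * N⁻¹)⁻¹ by simp [y, mul_assoc], ← hmain, mul_inv_cancel_right]
  have hyT : y ∈ S.T := mul_mem ht' (inv_mem (S.normal n x hx))
  obtain ⟨k, hk⟩ := S.pgroup ⟨u₂, hu₂⟩
  have hk' : u₂ ^ p ^ k = 1 := congrArg Subtype.val hk
  have h1 : N * u₂ * N⁻¹ ∈ S.U := by
    refine S.of_pow _ ?_ k (by rw [conj_pow, hk', mul_one, mul_inv_cancel])
    rw [hy]; exact mul_mem (S.unip_le hu₄) (S.torus_le hyT)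
  have hyU : y ∈ S.U := by
    have := mul_mem (inv_mem hu₄) (hy ▸ h1)
    rwa [inv_mul_cancel_left] at this
  exact mul_inv_eq_one.1 (S.disj y hyU hyT)

theorem conj_iterate {H : Type*} [Group H] {a b : H} {j : ℕ} (h : b * a * b⁻¹ = a ^ j) :
    ∀ k : ℕ, b ^ k * a * (b ^ k)⁻¹ = a ^ j ^ k := by
  intro k
  induction k with
  | zero => simp
  | succ k ih =>
    calc b ^ (k + 1) * a * (b ^ (k + 1))⁻¹ = b * (b ^ k * a * (b ^ k)⁻¹) * b⁻¹ := by
          rw [pow_succ']; group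
      _ = a ^ j ^ (k + 1) := by rw [ih, ← conj_pow, h, ← pow_mul, pow_succ']

/-- A section with an automiser of a cyclic group of prime order foreign to the Weyl group. -/
theorem Setup.no_section [Finite G] {ℓ : ℕ} [hℓ : Fact ℓ.Prime] (hT : ¬ ℓ ∣ S.T.index)
    (e : ℕ) (he : ∀ w : W, w ^ e = 1)
    {H A : Type*} [Group H] [Group A] (ι : H →* G) (hι : Function.Injective ι) (f : H →* A)
    (hf : Function.Surjective f) (a b : A) (ha : orderOf a = ℓ) {j : ℕ}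
    (hab : b * a * b⁻¹ = a ^ j) (hj : a ^ j ^ e ≠ a) : False := by
  haveI : Finite H := Finite.of_injective ι hι
  set Z := Subgroup.zpowers a
  set L := Z.comap f with hL
  obtain ⟨y, hy⟩ := hf b
  have hyZ : ∀ z ∈ Z, b * z * b⁻¹ ∈ Z := by
    rintro z ⟨i, rfl⟩
    rw [show b * a ^ i * b⁻¹ = (b * a * b⁻¹) ^ i from (conj_zpow).symm, hab]
    exact zpow_mem (pow_mem (Subgroup.mem_zpowers a) j) i
  have hyL : ∀ x ∈ L, y * x * y⁻¹ ∈ L := fun x hx => by
    show f (y * x * y⁻¹) ∈ Z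
    rw [map_mul, map_mul, map_inv, hy]
    exact hyZ _ hx
  obtain ⟨P⟩ : Nonempty (Sylow ℓ ↥L) := inferInstance
  set P' := (P : Subgroup ↥L).map L.subtype with hP'
  -- a Frattini element
  have hcard : Nat.card ↥((P'.map (MulAut.conj y).toMonoidHom).subgroupOf L) =
      ℓ ^ (Nat.card ↥L).factorization ℓ := by
    have hle : P'.map (MulAut.conj y).toMonoidHom ≤ L := by
      rintro _ ⟨x, hx, rfl⟩
      exact hyL x (Subgroup.map_subtype_le _ hx)
    rw [Nat.card_congr (Subgroup.subgroupOfEquivOfLe hle).toEquiv,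
      Subgroup.card_map_of_injective (MulAut.conj y).injective, hP',
      Subgroup.card_map_of_injective Subtype.coe_injective, P.card_eq_multiplicity]
  obtain ⟨l, hl⟩ := MulAction.exists_smul_eq ↥L (Sylow.ofCard _ hcard) P
  set y' := (l : H) * y with hy'
  have hnorm : ∀ x ∈ P', y' * x * y'⁻¹ ∈ P' := by
    intro x hx
    have h1 : y * x * y⁻¹ ∈ L := hyL x (Subgroup.map_subtype_le _ hx)
    refine ⟨l * ⟨_, h1⟩ * l⁻¹, ?_, by simp [hy', mul_assoc]⟩
    rw [← hl]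
    show l * ⟨_, h1⟩ * l⁻¹ ∈ ((l • Sylow.ofCard _ hcard : Sylow ℓ ↥L) : Subgroup ↥L)
    rw [Sylow.coe_subgroup_smul]
    exact ⟨⟨_, h1⟩, ⟨x, hx, rfl⟩, rfl⟩
  obtain ⟨i, hi⟩ : ∃ i : ℤ, f (l : H) = a ^ i := by
    obtain ⟨i, hi⟩ := l.2
    exact ⟨i, hi.symm⟩
  have hfy : ∀ k : ℕ, f (y' ^ k) * a * (f (y' ^ k))⁻¹ = a ^ j ^ k := by
    intro k
    rw [map_pow]
    refine conj_iterate ?_ k
    rw [hy', map_mul, hi, hy, show a ^ i * b * a * (a ^ i * b)⁻¹ = a ^ i * (b * a * b⁻¹) * (a ^ i)⁻¹ by group,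
      hab]
    group
  -- some element of `P` is not killed
  obtain ⟨z, hz, hz1⟩ : ∃ z ∈ P', f z ≠ 1 := by
    by_contra hc
    push Not at hc
    obtain ⟨x, hx⟩ := hf a
    have hxL : x ∈ L := show f x ∈ Z from hx ▸ Subgroup.mem_zpowers a
    let g : ↥L →* A := f.comp L.subtype
    have h1 : (P : Subgroup ↥L) ≤ g.ker := fun w hw => hc w ⟨w, hw, rfl⟩
    have h2 : g.range = Z := by
      refine le_antisymm ?_ ?_
      · rintro _ ⟨w, rfl⟩; exact w.2
      · rw [Subgroup.zpowers_le]; exact ⟨⟨x, hxL⟩, hx⟩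
    have h3 : g.ker.index = ℓ := by
      rw [Subgroup.index_ker, h2, Nat.card_zpowers, ha]
    have h4 := Subgroup.index_dvd_of_le h1
    rw [h3] at h4
    exact P.not_dvd_index h4
  -- move `P` into the torus
  obtain ⟨R, hR⟩ := ((P.isPGroup'.map L.subtype).map ι).exists_le_sylow
  obtain ⟨Q⟩ : Nonempty (Sylow ℓ ↥S.T) := inferInstance
  have hQ : Nat.card ↥((Q : Subgroup ↥S.T).map S.T.subtype) = ℓ ^ (Nat.card G).factorization ℓ := by
    rw [Subgroup.card_map_of_injective Subtype.coe_injective, Q.card_eq_multiplicity,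
      ← S.T.index_mul_card, Nat.factorization_mul Subgroup.index_ne_zero_of_finite Nat.card_pos.ne',
      Finsupp.add_apply, Nat.factorization_eq_zero_of_not_dvd hT, zero_add]
  obtain ⟨g, hg⟩ := MulAction.exists_smul_eq G R (Sylow.ofCard _ hQ)
  have hmem : ∀ x ∈ P', g * ι x * g⁻¹ ∈ S.T := by
    intro x hx
    refine Subgroup.map_subtype_le (Q : Subgroup ↥S.T) ?_
    have h1 : g * ι x * g⁻¹ ∈ ((g • R : Sylow ℓ G) : Subgroup G) := by
      rw [Sylow.coe_subgroup_smul]; exact ⟨ι x, hR ⟨x, hx, rfl⟩, rfl⟩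
    rw [hg] at h1
    exact h1
  obtain ⟨n, hn⟩ := S.exists_monomial (g * ι y' * g⁻¹)
  have hact : ∀ k : ℕ, ∀ x ∈ P', y' ^ k * x * (y' ^ k)⁻¹ ∈ P' ∧
      g * ι (y' ^ k * x * (y' ^ k)⁻¹) * g⁻¹ = S.ν (n ^ k) * (g * ι x * g⁻¹) * (S.ν (n ^ k))⁻¹ := by
    intro k
    induction k with
    | zero => intro x hx; simp [hx]
    | succ k ih =>
      intro x hx
      obtain ⟨h1, h2⟩ := ih x hx
      have e : y' ^ (k + 1) * x * (y' ^ (k + 1))⁻¹ = y' * (y' ^ k * x * (y' ^ k)⁻¹) * y'⁻¹ := by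
        rw [pow_succ']; group
      set w := y' ^ k * x * (y' ^ k)⁻¹
      refine ⟨e ▸ hnorm _ h1, ?_⟩
      have e2 : g * ι (y' * w * y'⁻¹) * g⁻¹ =
          g * ι y' * g⁻¹ * (g * ι w * g⁻¹) * (g * ι y' * g⁻¹)⁻¹ := by
        simp [mul_assoc]
      rw [e, e2, hn _ (hmem _ h1) (e2 ▸ hmem _ (hnorm _ h1)), h2, map_pow, map_pow, pow_succ']
      group
  have hcent : y' ^ e * z * (y' ^ e)⁻¹ = z := by
    refine hι (mul_left_cancel (a := g) (mul_right_cancel (b := g⁻¹) ?_))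
    rw [(hact e z hz).2]
    have hT' : S.ν (n ^ e) ∈ S.T := S.ker _ (by rw [map_pow, he])
    rw [S.comm _ hT' _ (hmem z hz), mul_inv_cancel_right]
  obtain ⟨r, hr⟩ : f z ∈ Z := by
    obtain ⟨w, -, rfl⟩ := hz
    exact w.2
  have h5 : (a ^ j ^ e) ^ r = a ^ r := by
    have h6 := congrArg f hcent
    rw [map_mul, map_mul, map_inv, ← hr, ← conj_zpow, hfy] at h6
    exact h6
  have hr1 : ¬ (ℓ : ℤ) ∣ r := fun hd => hz1 (by
    rw [← hr]; exact orderOf_dvd_iff_zpow_eq_one.1 (ha ▸ hd))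
  refine hj ?_
  have hcop : Int.gcd r ℓ = 1 := by
    rw [Int.gcd_comm]
    exact Int.isCoprime_iff_gcd_eq_one.1 ((Nat.prime_iff_prime_int.1 hℓ.out).coprime_iff_not_dvd.2 hr1)
  have hbez := Int.gcd_eq_gcd_ab r ℓ
  rw [hcop, Nat.cast_one] at hbez
  have hpow : ∀ c : A, c ^ (ℓ : ℤ) = 1 → c = (c ^ r) ^ r.gcdA ℓ := fun c hc => by
    conv_lhs => rw [← zpow_one c, hbez, zpow_add, zpow_mul, zpow_mul, hc, one_zpow, mul_one]
  have haℓ : a ^ (ℓ : ℤ) = 1 := by rw [zpow_natCast, ← ha, pow_orderOf_eq_one]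
  rw [hpow (a ^ j ^ e) (by rw [← zpow_natCast a (j ^ e), ← zpow_mul, mul_comm, zpow_mul, haℓ, one_zpow]),
    h5, ← hpow a haℓ]

section alt

/-- The permutations of seven letters inside those of `r` letters. -/
noncomputable def emb {r : ℕ} (h : 7 ≤ r) : Equiv.Perm (Fin 7) →* Equiv.Perm (Fin r) :=
  Equiv.Perm.viaEmbeddingHom (Fin.castLEEmb h)

theorem mem_alternating_of_odd_pow {α : Type*} [Fintype α] [DecidableEq α] {x : Equiv.Perm α} {k : ℕ}
    (hk : Odd k) (hx : x ^ k = 1) : x ∈ alternatingGroup α := by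
  rw [Equiv.Perm.mem_alternatingGroup]
  have h : Equiv.Perm.sign x ^ k = 1 := by rw [← map_pow, hx, map_one]
  rcases Int.units_eq_one_or (Equiv.Perm.sign x) with h1 | h1
  · exact h1
  · rw [h1, hk.neg_one_pow] at h; exact absurd h (by decide)

/-- An element of order seven squared by one of order three. -/
theorem exists_seven_three {r : ℕ} (h : 7 ≤ r) :
    ∃ a b : ↥(alternatingGroup (Fin r)), orderOf a = 7 ∧ b * a * b⁻¹ = a ^ 2 := by
  haveI : Fact (Nat.Prime 7) := ⟨by decide⟩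
  let b₀ : Equiv.Perm (Fin 7) := ⟨fun x => 2 * x, fun x => 4 * x, by decide, by decide⟩
  let a₀ : Equiv.Perm (Fin 7) := ⟨fun x => x + 1, fun x => x - 1, by decide, by decide⟩
  have e1 : a₀ ^ 7 = 1 := by decide
  have e2 : b₀ ^ 3 = 1 := by decide
  have e3 : b₀ * a₀ * b₀⁻¹ = a₀ ^ 2 := by decide
  have e4 : a₀ ≠ 1 := by decide
  have m1 : emb h a₀ ∈ alternatingGroup (Fin r) :=
    mem_alternating_of_odd_pow (k := 7) (by decide) (by rw [← map_pow, e1, map_one])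
  have m2 : emb h b₀ ∈ alternatingGroup (Fin r) :=
    mem_alternating_of_odd_pow (k := 3) (by decide) (by rw [← map_pow, e2, map_one])
  refine ⟨⟨_, m1⟩, ⟨_, m2⟩, ?_, Subtype.ext ?_⟩
  · refine orderOf_eq_prime (Subtype.ext ?_) fun e => e4 ?_
    · show emb h a₀ ^ 7 = 1
      rw [← map_pow, e1, map_one]
    · exact Equiv.Perm.viaEmbeddingHom_injective (Fin.castLEEmb h)
        ((congrArg Subtype.val e).trans (map_one _).symm)
  · show emb h b₀ * emb h a₀ * (emb h b₀)⁻¹ = emb h a₀ ^ 2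
    rw [← map_inv, ← map_mul, ← map_mul, e3, map_pow]

end alt

end Cfsg.Agent.TorusSection
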