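import Cfsg.Agent.TorusSection.Generic
import Mathlib.GroupTheory.SpecificGroups.Dihedral

/-!
Sections of split pairs with an abelian torus of rank two, at the prime two (helper97).
-/

set_option autoImplicit false

namespace Cfsg.Agent.TorusSection

theorem card_sq_ker (Z : Type*) [CommGroup Z] [Finite Z] :
    Nat.card (powMonoidHom 2 : Z →* Z).ker = (powMonoidHom 2 : Z →* Z).range.index := by
  set s := (powMonoidHom 2 : Z →* Z)
  have h1 := s.ker.card_mul_index
  rw [Subgroup.index_ker, ← s.range.card_mul_index, mul_comm (Nat.card s.range)] at h1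
  exact Nat.eq_of_mul_eq_mul_right Nat.card_pos h1

/-- A quotient of a finite abelian group has no larger two-rank. -/
theorem card_sq_ker_le {X Y : Type*} [CommGroup X] [CommGroup Y] [Finite X] (f : X →* Y)
    (hf : Function.Surjective f) :
    Nat.card (powMonoidHom 2 : Y →* Y).ker ≤ Nat.card (powMonoidHom 2 : X →* X).ker := by
  haveI : Finite Y := Finite.of_surjective f hf
  have hr : (powMonoidHom 2 : Y →* Y).range = ((powMonoidHom 2 : X →* X).range).map f := by
    ext y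
    constructor
    · rintro ⟨z, rfl⟩
      obtain ⟨x, rfl⟩ := hf z
      exact ⟨x ^ 2, ⟨x, rfl⟩, map_pow f x 2⟩
    · rintro ⟨_, ⟨x, rfl⟩, rfl⟩
      exact ⟨f x, (map_pow f x 2).symm⟩
  rw [card_sq_ker X, card_sq_ker Y, hr]
  exact Nat.le_of_dvd (Nat.pos_of_ne_zero Subgroup.index_ne_zero_of_finite) (Subgroup.index_map_dvd _ hf)

theorem sq_eq_one_of_pow {W : Type*} [Group W] {w : W} (h6 : w ^ 6 = 1) (k : ℕ)
    (h : w ^ 2 ^ k = 1) : w ^ 2 = 1 := by
  have h1 : Nat.gcd (2 ^ k) 6 ∣ 2 := by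
    rcases k with - | k
    · simp
    · rw [pow_succ', show 6 = 2 * 3 from rfl, Nat.gcd_mul_left,
        Nat.Coprime.gcd_eq_one (Nat.Coprime.pow_left k (by norm_num)), mul_one]
  obtain ⟨c, hc⟩ := h1
  rw [hc, pow_mul, pow_gcd_eq_one.mpr ⟨h, h6⟩, one_pow]

variable {G : Type*} [Group G] {Nn W : Type*} [Group Nn] [Group W] {p : ℕ} (S : Setup G Nn W p)

/-- A bound on the two-rank of the torus from a parametrisation. -/
theorem Setup.two_torsion_le {X : Type*} [CommGroup X] [Finite X] (π : X →* G) (hπ : π.range = S.T)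
    (hX : Nat.card (powMonoidHom 2 : X →* X).ker ≤ 4) :
    Nat.card {t : G // t ∈ S.T ∧ t ^ 2 = 1} ≤ 4 := by
  letI : CommGroup ↥S.T := { (inferInstance : Group ↥S.T) with
    mul_comm := fun a b => Subtype.ext (S.comm _ a.2 _ b.2) }
  let π' : X →* ↥S.T := π.codRestrict S.T fun x => hπ ▸ ⟨x, rfl⟩
  have hs : Function.Surjective π' := fun t => by
    obtain ⟨x, hx⟩ : (t : G) ∈ π.range := hπ.symm ▸ t.2
    exact ⟨x, Subtype.ext hx⟩
  refine le_trans (le_of_eq ?_) ((card_sq_ker_le π' hs).trans hX)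
  exact Nat.card_congr
    { toFun := fun t => ⟨⟨t.1, t.2.1⟩, MonoidHom.mem_ker.2 (Subtype.ext t.2.2)⟩
      invFun := fun t => ⟨t.1.1, t.1.2, congrArg Subtype.val (MonoidHom.mem_ker.1 t.2)⟩
      left_inv := fun _ => rfl
      right_inv := fun _ => rfl }

/-- No section has a two-subgroup with four involutions among the squares of its elements of order
four, when the monomial group holds a Sylow two-subgroup and the torus has two-rank two. -/
theorem Setup.no_two_section [Finite G] (hM : ¬ 2 ∣ S.ν.range.index) (hW : ∀ w : W, w ^ 6 = 1)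
    (hν : ∀ n, S.ν n = 1 → S.φ n = 1) (hT2 : Nat.card {t : G // t ∈ S.T ∧ t ^ 2 = 1} ≤ 4)
    {H A : Type*} [Group H] [Group A] (ι : H →* G) (hι : Function.Injective ι) (f : H →* A)
    (hf : Function.Surjective f) (Q : Subgroup A) (hQ : IsPGroup 2 Q) (x : Fin 4 → A)
    (hx : ∀ i, x i ∈ Q) (h4 : ∀ i, (x i ^ 2) ^ 2 = 1) (h1 : ∀ i, x i ^ 2 ≠ 1)
    (hinj : Function.Injective fun i => x i ^ 2) : False := by
  haveI : Fact (Nat.Prime 2) := ⟨Nat.prime_two⟩
  haveI : Finite H := Finite.of_injective ι hι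
  haveI : Finite A := Finite.of_surjective f hf
  set L := Q.comap f with hL
  obtain ⟨P⟩ : Nonempty (Sylow 2 ↥L) := inferInstance
  set P' := (P : Subgroup ↥L).map L.subtype with hP'
  -- the Sylow subgroup covers `Q`
  have hlift : ∀ a ∈ Q, ∃ y ∈ P', f y = a := by
    let g : ↥L →* ↥Q := (f.comp L.subtype).codRestrict Q fun y => y.2
    have hg : Function.Surjective g := fun a => by
      obtain ⟨y, hy⟩ := hf a.1
      exact ⟨⟨y, show f y ∈ Q from hy ▸ a.2⟩, Subtype.ext hy⟩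
    obtain ⟨k, hk⟩ := IsPGroup.iff_card.1 hQ
    have hd1 : ((P : Subgroup ↥L).map g).index ∣ (P : Subgroup ↥L).index := Subgroup.index_map_dvd _ hg
    have hd2 : ((P : Subgroup ↥L).map g).index ∣ 2 ^ k := hk ▸ Subgroup.index_dvd_card _
    have htop : (P : Subgroup ↥L).map g = ⊤ := by
      rw [← Subgroup.index_eq_one]
      obtain ⟨i, -, hi⟩ := (Nat.dvd_prime_pow Nat.prime_two).1 hd2
      rcases i with - | i
      · simpa using hi
      · exact absurd ((hi ▸ dvd_pow_self 2 i.succ_ne_zero).trans hd1) P.not_dvd_index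
    intro a ha
    obtain ⟨y, hy, he⟩ : (⟨a, ha⟩ : ↥Q) ∈ (P : Subgroup ↥L).map g := htop ▸ Subgroup.mem_top _
    exact ⟨y.1, ⟨y, hy, rfl⟩, congrArg Subtype.val he⟩
  -- move it into the monomial group
  obtain ⟨R, hR⟩ := ((P.isPGroup'.map L.subtype).map ι).exists_le_sylow
  obtain ⟨Qm⟩ : Nonempty (Sylow 2 ↥S.ν.range) := inferInstance
  have hQm : Nat.card ↥((Qm : Subgroup ↥S.ν.range).map S.ν.range.subtype) =
      2 ^ (Nat.card G).factorization 2 := by
    rw [Subgroup.card_map_of_injective Subtype.coe_injective, Qm.card_eq_multiplicity,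
      ← S.ν.range.index_mul_card, Nat.factorization_mul Subgroup.index_ne_zero_of_finite Nat.card_pos.ne',
      Finsupp.add_apply, Nat.factorization_eq_zero_of_not_dvd hM, zero_add]
  obtain ⟨g, hg⟩ := MulAction.exists_smul_eq G R (Sylow.ofCard _ hQm)
  have hmem : ∀ y ∈ P', g * ι y * g⁻¹ ∈ S.ν.range := by
    intro y hy
    refine Subgroup.map_subtype_le (Qm : Subgroup ↥S.ν.range) ?_
    have h2 : g * ι y * g⁻¹ ∈ ((g • R : Sylow 2 G) : Subgroup G) := by
      rw [Sylow.coe_subgroup_smul]; exact ⟨ι y, hR ⟨y, hy, rfl⟩, rfl⟩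
    rw [hg] at h2
    exact h2
  let c : H →* G := (MulAut.conj g).toMonoidHom.comp ι
  have hc : Function.Injective c := (MulAut.conj g).injective.comp hι
  set C := P' ⊓ S.T.comap c
  have hsq : ∀ y ∈ P', y ^ 2 ∈ C := by
    intro y hy
    refine ⟨pow_mem hy 2, ?_⟩
    obtain ⟨n, hn⟩ := hmem y hy
    obtain ⟨k, hk⟩ := (P.isPGroup'.map L.subtype) ⟨y, hy⟩
    have hk' : y ^ 2 ^ k = 1 := congrArg Subtype.val hk
    have h2 : S.φ n ^ 2 ^ k = 1 := by
      rw [← map_pow]
      refine hν _ ?_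
      rw [map_pow, hn, conj_pow, ← map_pow, hk', map_one, mul_one, mul_inv_cancel]
    show c (y ^ 2) ∈ S.T
    have h3 := S.ker (n ^ 2) (by rw [map_pow, sq_eq_one_of_pow (hW _) k h2])
    rw [map_pow, hn] at h3
    rwa [map_pow]
  -- the two-rank of the image
  letI : CommGroup ↥C := { (inferInstance : Group ↥C) with
    mul_comm := fun a b => Subtype.ext (hc (by
      show c (a.1 * b.1) = c (b.1 * a.1)
      rw [map_mul, map_mul]; exact S.comm _ a.2.2 _ b.2.2)) }
  let fC : ↥C →* A := f.comp C.subtype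
  letI : CommGroup ↥fC.range := { (inferInstance : Group ↥fC.range) with
    mul_comm := by
      rintro ⟨_, a, rfl⟩ ⟨_, b, rfl⟩
      exact Subtype.ext (by
        show fC a * fC b = fC b * fC a
        rw [← map_mul, ← map_mul, mul_comm]) }
  have hle := card_sq_ker_le fC.rangeRestrict fC.rangeRestrict_surjective
  have hC : Nat.card (powMonoidHom 2 : ↥C →* ↥C).ker ≤ 4 := by
    refine le_trans (Nat.card_le_card_of_injective
      (fun a : (powMonoidHom 2 : ↥C →* ↥C).ker =>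
        (⟨c a.1.1, a.1.2.2, by
          rw [← map_pow, show (a.1 : H) ^ 2 = 1 from congrArg Subtype.val (MonoidHom.mem_ker.1 a.2),
            map_one]⟩ : {t : G // t ∈ S.T ∧ t ^ 2 = 1}))
      fun a b h => Subtype.ext (Subtype.ext (hc (congrArg Subtype.val h :)))) hT2
  have hxC : ∀ i, x i ^ 2 ∈ fC.range := fun i => by
    obtain ⟨y, hy, he⟩ := hlift _ (hx i)
    exact ⟨⟨y ^ 2, hsq y hy⟩, show f (y ^ 2) = _ by rw [map_pow, he]⟩
  let e : Option (Fin 4) → (powMonoidHom 2 : ↥fC.range →* ↥fC.range).ker := fun o =>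
    o.elim ⟨1, one_mem _⟩ fun i => ⟨⟨x i ^ 2, hxC i⟩, MonoidHom.mem_ker.2 (Subtype.ext (h4 i))⟩
  have he : Function.Injective e := by
    rintro (- | i) (- | j) h
    · rfl
    · exact absurd (congrArg (fun z => (z.1.1 : A)) h).symm (h1 j)
    · exact absurd (congrArg (fun z => (z.1.1 : A)) h) (h1 i)
    · exact congrArg some (hinj (congrArg (fun z => (z.1.1 : A)) h))
  have h5 := Nat.card_le_card_of_injective e he
  rw [Nat.card_eq_fintype_card, Fintype.card_option, Fintype.card_fin] at h5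
  omega

section alt

/-- The permutations of eight letters inside those of `r` letters. -/
noncomputable def emb8 {r : ℕ} (h : 8 ≤ r) : Equiv.Perm (Fin 8) →* Equiv.Perm (Fin r) :=
  Equiv.Perm.viaEmbeddingHom (Fin.castLEEmb h)

theorem sign_emb8 {r : ℕ} (h : 8 ≤ r) (σ : Equiv.Perm (Fin 8)) :
    Equiv.Perm.sign (emb8 h σ) = Equiv.Perm.sign σ :=
  (congrArg Equiv.Perm.sign (Equiv.Perm.ext fun x => by
      by_cases hx : x ∈ Set.range (Fin.castLEEmb h)
      · obtain ⟨y, rfl⟩ := hx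
        exact (Equiv.Perm.viaEmbedding_apply σ _ y).trans
          (Equiv.Perm.extendDomain_apply_image σ (Equiv.ofInjective _ (Fin.castLEEmb h).injective) y).symm
      · exact (Equiv.Perm.viaEmbedding_apply_of_notMem σ _ x hx).trans
          (Equiv.Perm.extendDomain_apply_not_subtype σ (Equiv.ofInjective _ (Fin.castLEEmb h).injective) hx).symm)).trans
  (Equiv.Perm.sign_extendDomain σ (Equiv.ofInjective (Fin.castLEEmb h) (Fin.castLEEmb h).injective))

theorem sign_emb {r : ℕ} (h : 7 ≤ r) (σ : Equiv.Perm (Fin 7)) :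
    Equiv.Perm.sign (emb h σ) = Equiv.Perm.sign σ :=
  (congrArg Equiv.Perm.sign (Equiv.Perm.ext fun x => by
      by_cases hx : x ∈ Set.range (Fin.castLEEmb h)
      · obtain ⟨y, rfl⟩ := hx
        exact (Equiv.Perm.viaEmbedding_apply σ _ y).trans
          (Equiv.Perm.extendDomain_apply_image σ (Equiv.ofInjective _ (Fin.castLEEmb h).injective) y).symm
      · exact (Equiv.Perm.viaEmbedding_apply_of_notMem σ _ x hx).trans
          (Equiv.Perm.extendDomain_apply_not_subtype σ (Equiv.ofInjective _ (Fin.castLEEmb h).injective) hx).symm)).trans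
  (Equiv.Perm.sign_extendDomain σ (Equiv.ofInjective (Fin.castLEEmb h) (Fin.castLEEmb h).injective))

/-- A five-cycle squared by a permutation of order four. -/
theorem exists_five_four {r : ℕ} (h : 7 ≤ r) :
    ∃ a b : ↥(alternatingGroup (Fin r)), orderOf a = 5 ∧ b * a * b⁻¹ = a ^ 2 := by
  haveI : Fact (Nat.Prime 5) := ⟨by decide⟩
  let a₀ : Equiv.Perm (Fin 7) := Equiv.swap 0 1 * Equiv.swap 1 2 * Equiv.swap 2 3 * Equiv.swap 3 4
  let b₀ : Equiv.Perm (Fin 7) := Equiv.swap 1 2 * Equiv.swap 2 4 * Equiv.swap 4 3 * Equiv.swap 5 6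
  have e1 : a₀ ^ 5 = 1 := by decide
  have e3 : b₀ * a₀ * b₀⁻¹ = a₀ ^ 2 := by decide
  have e4 : a₀ ≠ 1 := by decide
  have s1 : Equiv.Perm.sign a₀ = 1 := by decide
  have s2 : Equiv.Perm.sign b₀ = 1 := by decide
  refine ⟨⟨emb h a₀, by rw [Equiv.Perm.mem_alternatingGroup, sign_emb, s1]⟩,
    ⟨emb h b₀, by rw [Equiv.Perm.mem_alternatingGroup, sign_emb, s2]⟩, ?_, Subtype.ext ?_⟩
  · refine orderOf_eq_prime (Subtype.ext ?_) fun e => e4 ?_
    · show emb h a₀ ^ 5 = 1
      rw [← map_pow, e1, map_one]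
    · exact Equiv.Perm.viaEmbeddingHom_injective (Fin.castLEEmb h)
        ((congrArg Subtype.val e).trans (map_one _).symm)
  · show emb h b₀ * emb h a₀ * (emb h b₀)⁻¹ = emb h a₀ ^ 2
    rw [← map_inv, ← map_mul, ← map_mul, e3, map_pow]

/-- Two commuting dihedral groups of order eight. -/
def dd : DihedralGroup 4 × DihedralGroup 4 → Equiv.Perm (Fin 8)
  | (u, v) => finSumFinEquiv.permCongr (Equiv.sumCongr (d4 u) (d4 v))
where
  /-- the symmetries of a square -/
  d4 : DihedralGroup 4 → Equiv.Perm (Fin 4)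
    | .r i => Equiv.addLeft (i : Fin 4)
    | .sr i => Equiv.subLeft (-i : Fin 4)

/-- A two-group of even permutations of eight letters with four squares. -/
theorem exists_two_group {r : ℕ} (h : 8 ≤ r) :
    ∃ (Q : Subgroup ↥(alternatingGroup (Fin r))) (x : Fin 4 → ↥(alternatingGroup (Fin r))),
      IsPGroup 2 Q ∧ (∀ i, x i ∈ Q) ∧ (∀ i, (x i ^ 2) ^ 2 = 1) ∧ (∀ i, x i ^ 2 ≠ 1) ∧
      Function.Injective fun i => x i ^ 2 := by
  have hd : ∀ a b, dd (a * b) = dd a * dd b := by decide +kernel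
  let δ : DihedralGroup 4 × DihedralGroup 4 →* Equiv.Perm (Fin 8) := MonoidHom.mk' dd hd
  let s : Equiv.Perm (Fin 8) := Equiv.swap 0 4 * Equiv.swap 1 5 * Equiv.swap 2 6 * Equiv.swap 3 7
  let sw : DihedralGroup 4 × DihedralGroup 4 → DihedralGroup 4 × DihedralGroup 4 := fun a => (a.2, a.1)
  have hs : ∀ a, s * dd a * s⁻¹ = dd (sw a) := by decide +kernel
  have hs2 : s ^ 2 ^ 1 = 1 := by decide
  have hδ : IsPGroup 2 δ.range := by
    have h64 : Nat.card (DihedralGroup 4 × DihedralGroup 4) = 2 ^ 6 := by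
      rw [Nat.card_prod, DihedralGroup.nat_card]; rfl
    exact (IsPGroup.of_card h64).of_surjective δ.rangeRestrict δ.rangeRestrict_surjective
  have hz : IsPGroup 2 (Subgroup.zpowers s) := by
    rintro ⟨_, i, rfl⟩
    refine ⟨1, Subtype.ext ?_⟩
    show (s ^ i) ^ (2 ^ 1 : ℕ) = 1
    rw [← zpow_natCast, ← zpow_mul, mul_comm, zpow_mul, zpow_natCast, hs2, one_zpow]
  have hn : Subgroup.zpowers s ≤ Subgroup.normalizer (δ.range : Set (Equiv.Perm (Fin 8))) := by
    rw [Subgroup.zpowers_le, Subgroup.mem_normalizer_iff]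
    intro g
    constructor
    · rintro ⟨a, rfl⟩
      exact ⟨sw a, (hs a).symm⟩
    · rintro ⟨a, ha⟩
      refine ⟨sw a, ?_⟩
      have := hs (sw a)
      rw [show sw (sw a) = a from rfl, show dd a = δ a from rfl, ha] at this
      exact mul_left_cancel (mul_right_cancel this)
  have hQ₀ : IsPGroup 2 ↥(Subgroup.zpowers s ⊔ δ.range) := IsPGroup.to_sup_of_normal_right' hz hδ hn
  let xa : Fin 4 → DihedralGroup 4 × DihedralGroup 4 :=
    ![(.r 1, .sr 0), (.sr 0, .r 1), (.r 1, .r 1), (.sr 1, .r 0)]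
  let xe : Fin 4 → ℕ := ![0, 0, 0, 1]
  let x₀ : Fin 4 → Equiv.Perm (Fin 8) := fun i => dd (xa i) * s ^ xe i
  have hx₀ : ∀ i, x₀ i ∈ Subgroup.zpowers s ⊔ δ.range := fun i =>
    mul_mem (Subgroup.mem_sup_right (MonoidHom.mem_range.2 ⟨xa i, rfl⟩))
      (Subgroup.mem_sup_left (Subgroup.npow_mem_zpowers s (xe i)))
  have s1 : ∀ i, Equiv.Perm.sign (x₀ i) = 1 := by decide +kernel
  have s4 : ∀ i, (x₀ i ^ 2) ^ 2 = 1 := by decide +kernel
  have s5 : ∀ i, x₀ i ^ 2 ≠ 1 := by decide +kernel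
  have s6 : ∀ i j, x₀ i ^ 2 = x₀ j ^ 2 → i = j := by decide +kernel
  have hinj : Function.Injective (emb8 h) := Equiv.Perm.viaEmbeddingHom_injective _
  refine ⟨((Subgroup.zpowers s ⊔ δ.range).map (emb8 h)).subgroupOf (alternatingGroup (Fin r)),
    fun i => ⟨emb8 h (x₀ i), by rw [Equiv.Perm.mem_alternatingGroup, sign_emb8, s1]⟩,
    (hQ₀.map _).comap_of_injective _ Subtype.coe_injective, fun i => ⟨x₀ i, hx₀ i, rfl⟩,
    fun i => Subtype.ext ?_, fun i e => s5 i (hinj ?_), fun i j e => s6 i j (hinj ?_)⟩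
  · show (emb8 h (x₀ i) ^ 2) ^ 2 = 1
    rw [← map_pow, ← map_pow, s4, map_one]
  · rw [map_pow, map_one]; exact congrArg Subtype.val e
  · rw [map_pow, map_pow]; exact congrArg Subtype.val e

end alt

end Cfsg.Agent.TorusSection
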